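import Cfsg.Agent.Lib.Spor.Cos.Act

/-! Three involutions of the three-point stabiliser, with their images in the two-point stabiliser. -/

set_option autoImplicit false
set_option maxRecDepth 100000

open Cfsg.Agent.Spor.Cos

namespace Cfsg.Agent.Spor.MTwentyOne

/-- Three involutions, packed. -/
def genQ : List ℕ := [0xbd1d68ca696d5ec59208194ca38820, 0xbc5c9812d3155a53aa88599921bc20, 0xb99329d0702096c6aaa7458af8b820]

/-- An element permuting the three points cyclically, packed. -/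
def rotP : ℕ := 0x46ad53d25a5850330eb24a6343ae1

/-- Its inverse, packed. -/
def rotI : ℕ := 0xbaaf29acc90a8a44e234ae0723417

/-- The involutions as words. -/
def inWords : List (List ℕ) := [[0, 1, 2, 0, 1, 2, 0, 1, 0, 2, 1, 0, 2, 1, 0],
    [2, 0, 1, 2, 1, 0, 1, 0, 1, 0, 2, 1, 0, 2],
    [1, 2, 1, 2, 0, 1, 2, 0, 1, 0, 2, 1, 0, 1, 2, 0, 1, 0, 1, 2]]

/-- Their conjugates as words. -/
def twWords : List (List ℕ) := [[0, 2, 0, 2, 0, 1, 2, 0, 2, 1, 0, 2, 0, 1, 2, 0, 1, 0, 1, 2, 0, 1],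
    [1, 0, 2, 1, 2, 1, 0, 1],
    [1, 0, 2, 1, 0, 2, 0, 2, 0, 1, 2, 0, 1]]

/-- A table. -/
def vBT : Tab := ⟨(.node 3 (.node 1 (.leaf 0x1100030007000e000f0002000100010001000000000000) (.node 2 (.leaf 0x8000b00030016000600050005000c0006000f0012000a) (.leaf 0xd0007000b000a000a0004001500140010000700080008))) (.node 4 (.leaf 0x40002000d000200150015000b000d000f000c0005000c) (.node 5 (.leaf 0x1300100011001400040012000300160013001000130009) (.leaf 0x17001700170006001100140009000e000e001200090016)))), 48, 2⟩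

/-- The action on 24 points. -/
def actB : Act := ⟨3, 24, vBT⟩

/-- A word. -/
def pairU0 : List ℕ := [0, 1, 2, 0, 1, 2, 0, 2, 1, 2]

/-- A word commuting with it, with values (2, 3, 0). -/
def pairW0 : List ℕ := [1, 2, 1, 0, 2, 0, 1, 2, 0, 1, 0]

/-- A word. -/
def pairU1 : List ℕ := [2, 0, 2, 0, 1, 2, 1, 0, 2, 1, 2, 0, 2, 0, 1, 2]

/-- A word commuting with it, with values (3, 2, 0). -/
def pairW1 : List ℕ := [1, 2, 0, 1, 2, 0, 2, 1]

/-- A word. -/
def pairU2 : List ℕ := [1, 0, 2, 1, 2, 0, 2, 0, 1, 2, 0, 2, 1, 2, 0, 1]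

/-- A word commuting with it, with values (0, 0, 1). -/
def pairW2 : List ℕ := [2, 0, 1, 2, 0, 1, 2, 1, 0, 2]

end Cfsg.Agent.Spor.MTwentyOne
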