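import Cfsg.Agent.Lib.Spor.M21Psl
import Cfsg.Agent.Lib.Spor.MTwentyOneMult.Data
import Cfsg.Agent.Lib.Spor.MTwentyTwoMult.Two

/-! The three-point stabiliser and its two embeddings in the two-point stabiliser. -/

set_option autoImplicit false
set_option maxRecDepth 100000
set_option maxHeartbeats 4000000

open Cfsg.Agent.Spor.Cos
open Cfsg.Agent.Spor.Golay (get inM24 permOf idx pt)
open Cfsg.Agent.Spor.MTwentyTwo (G22 gT)

namespace Cfsg.Agent.Spor.MTwentyOne

/-- The group. -/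
abbrev G21 : Type := ↥(M21.M21 (none : Cfsg.GolayPt) (some 0) (some 1))

theorem pt_named : pt 23 = (none : Cfsg.GolayPt) ∧ pt 0 = some 0 ∧ pt 1 = some 1 := by decide +kernel

/-- A packed element fixing the three points. -/
def chkMem (P : ℕ) : Bool := inM24 P && [23, 0, 1].all fun i => get P i == i

theorem valid_of_inM24 {P : ℕ} (h : inM24 P = true) : Cfsg.Agent.Spor.Golay.valid P = true := by
  rw [inM24, Bool.and_eq_true] at h
  exact h.1

theorem fix_of_chk {P : ℕ} (h : chkMem P = true) {i : ℕ} (hi : i ∈ [23, 0, 1]) : permOf P (pt i) = pt i := by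
  simp only [chkMem, Bool.and_eq_true, List.all_eq_true, beq_iff_eq] at h
  have hlt : i < 24 := by fin_cases hi <;> norm_num
  refine Cfsg.Agent.Spor.Golay.idx_injective ?_
  rw [Cfsg.Agent.Spor.Golay.idx_permOf (valid_of_inM24 h.1), Cfsg.Agent.Spor.Golay.idx_pt hlt, h.2 i hi]

theorem inM24_of_chk {P : ℕ} (h : chkMem P = true) : inM24 P = true := by
  simp only [chkMem, Bool.and_eq_true] at h
  exact h.1

/-- The element of a packed number. -/
noncomputable def elemOf {P : ℕ} (h : chkMem P = true) : G21 :=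
  ⟨⟨permOf P, Cfsg.Agent.Spor.Golay.permOf_mem_M24 (inM24_of_chk h)⟩, by
    refine ⟨⟨?_, ?_⟩, ?_⟩
    · exact MulAction.mem_stabilizer_iff.2 (by rw [← pt_named.1]; exact fix_of_chk h (by simp))
    · exact MulAction.mem_stabilizer_iff.2 (by rw [← pt_named.2.1]; exact fix_of_chk h (by simp))
    · exact MulAction.mem_stabilizer_iff.2 (by rw [← pt_named.2.2]; exact fix_of_chk h (by simp))⟩

/-- The generators. -/
noncomputable def hT (s : ℕ) : G21 :=
  if h : s < 3 ∧ chkMem (genQ.getD s 0) = true then elemOf h.2 else 1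

theorem hT_out (s : ℕ) (hs : 3 ≤ s) : hT s = 1 := by rw [hT, dif_neg fun h => absurd h.1 (not_lt.2 hs)]

theorem gen_ok : ∀ s < 3, chkMem (genQ.getD s 0) = true := by decide +kernel

/-- The points as numbers. -/
def toFin : Cfsg.GolayPt ≃ Fin actB.N where
  toFun p := ⟨idx p, Cfsg.Agent.Spor.Golay.idx_lt p⟩
  invFun i := pt i.1
  left_inv p := Cfsg.Agent.Spor.Golay.pt_idx p
  right_inv i := Fin.ext (Cfsg.Agent.Spor.Golay.idx_pt i.2)

/-- The action on the numbers. -/
def piB : G21 →* Equiv.Perm (Fin actB.N) :=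
  (Equiv.permCongrHom toFin).toMonoidHom.comp (Cfsg.M24.subtype.comp (M21.M21 _ _ _).subtype)

theorem piB_val (y : G21) (p : Fin actB.N) : (piB y p : ℕ) = idx (y.1.1 (pt p.1)) := rfl

theorem act_inv : ∀ p < actB.N, actB.chkInv p = true := by
  intro p hp
  replace hp : p < 24 := hp
  interval_cases p <;> decide +kernel

theorem act_table : ∀ p < 24, ∀ s < 3, actB.im p s = get (genQ.getD s 0) p := by decide +kernel

theorem hT_val {s : ℕ} (hs : s < 3) : (hT s).1.1 = permOf (genQ.getD s 0) := by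
  rw [hT, dif_pos ⟨hs, gen_ok s hs⟩]
  rfl

theorem homB : actB.Hom hT piB := by
  refine ⟨act_inv, fun s => Equiv.ext fun p => Fin.ext ?_⟩
  by_cases hs : s < 3
  · rw [actB.perm_apply act_inv hs, piB_val, hT_val hs, act_table p.1 p.2 s hs,
      Cfsg.Agent.Spor.Golay.idx_permOf (valid_of_inM24 (inM24_of_chk (gen_ok s hs))),
      Cfsg.Agent.Spor.Golay.idx_pt p.2]
  · rw [hT_out s (not_lt.1 hs), map_one, actB.perm_out s (not_lt.1 hs)]

theorem det (y : G21)
    (h : ∀ q : Fin actB.N, (q : ℕ) ∈ [0, 1, 2, 3, 4, 5, 6, 7, 8, 9, 10, 11, 12, 13, 14, 15, 16, 17, 18, 19, 20, 21,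
      22, 23] → piB y q = q) : y = 1 := by
  refine Subtype.ext (Subtype.ext (Equiv.ext fun p => Cfsg.Agent.Spor.Golay.idx_injective ?_))
  have hm : ∀ n < 24, n ∈ [0, 1, 2, 3, 4, 5, 6, 7, 8, 9, 10, 11, 12, 13, 14, 15, 16, 17, 18, 19, 20, 21, 22, 23] := by
    decide
  have e := congrArg Fin.val (h (toFin p) (hm _ (toFin p).2))
  rw [piB_val] at e
  simpa [toFin, Cfsg.Agent.Spor.Golay.pt_idx] using e

theorem card_G21 : Nat.card G21 = 20160 := M21.natCard_M21 (by decide) (by decide) (by decide)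

/-- The inclusion. -/
def inc : G21 →* G22 where
  toFun y := ⟨y.1.1, by
    have h1 : y.1.1 none = none := y.2.1.1
    have h2 : y.1.1 (some 0) = some 0 := y.2.1.2
    simp only [Cfsg.Spor.M22, Cfsg.Spor.M23, Subgroup.mem_inf, MulAction.mem_stabilizer_iff]
    exact ⟨⟨y.1.2, h1⟩, h2⟩⟩
  map_one' := rfl
  map_mul' _ _ := rfl

/-- The rotation. -/
noncomputable def rot : Equiv.Perm Cfsg.GolayPt := permOf rotP

theorem rot_ok : inM24 rotP = true ∧ get rotP 1 = 23 ∧ get rotP 23 = 0 := by decide +kernel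

theorem rot_some_one : rot (some 1) = none ∧ rot none = some 0 := by
  have h := Cfsg.Agent.Spor.Golay.idx_permOf (valid_of_inM24 rot_ok.1)
  constructor
  · refine Cfsg.Agent.Spor.Golay.idx_injective ?_
    rw [← pt_named.1, ← pt_named.2.2, rot, h, Cfsg.Agent.Spor.Golay.idx_pt (by norm_num : 1 < 24),
      Cfsg.Agent.Spor.Golay.idx_pt (by norm_num : 23 < 24), rot_ok.2.1]
  · refine Cfsg.Agent.Spor.Golay.idx_injective ?_
    rw [← pt_named.1, ← pt_named.2.1, rot, h, Cfsg.Agent.Spor.Golay.idx_pt (by norm_num : 23 < 24),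
      Cfsg.Agent.Spor.Golay.idx_pt (by norm_num : 0 < 24), rot_ok.2.2]

/-- The inclusion after conjugation by the rotation. -/
noncomputable def incRot : G21 →* G22 where
  toFun y := ⟨rot * y.1.1 * rot⁻¹, by
    obtain ⟨r1, r2⟩ := rot_some_one
    have hrot : rot ∈ Cfsg.M24 := Cfsg.Agent.Spor.Golay.permOf_mem_M24 rot_ok.1
    have h1 : y.1.1 (some 1) = some 1 := y.2.2
    have h2 : y.1.1 none = none := y.2.1.1
    simp only [Cfsg.Spor.M22, Cfsg.Spor.M23, Subgroup.mem_inf, MulAction.mem_stabilizer_iff]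
    refine ⟨⟨Cfsg.M24.mul_mem (Cfsg.M24.mul_mem hrot y.1.2) (Cfsg.M24.inv_mem hrot), ?_⟩, ?_⟩
    · show rot (y.1.1 (rot⁻¹ none)) = none
      rw [Equiv.Perm.inv_eq_iff_eq.2 r1.symm, h1, r1]
    · show rot (y.1.1 (rot⁻¹ (some 0))) = some 0
      rw [Equiv.Perm.inv_eq_iff_eq.2 r2.symm, h2, r2]⟩
  map_one' := by
    refine Subtype.ext ?_
    show rot * 1 * rot⁻¹ = 1
    rw [mul_one, mul_inv_cancel]
  map_mul' y z := by
    refine Subtype.ext ?_
    show rot * (y.1.1 * z.1.1) * rot⁻¹ = rot * y.1.1 * rot⁻¹ * (rot * z.1.1 * rot⁻¹)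
    group

/-- A word with the values of a packed permutation. -/
noncomputable def chkWord (P : ℕ) (w : List ℕ) : Bool :=
  w.all (fun s => Nat.blt s 3) &&
    (List.range 24).all fun i => Nat.beq (Cfsg.Agent.Spor.MTwentyTwo.actA.go w i) (get P i)

theorem ev_of_chk {P : ℕ} (hv : Cfsg.Agent.Spor.Golay.valid P = true) {w : List ℕ} (h : chkWord P w = true)
    {y : G22} (hy : y.1 = permOf P) : y = ev gT w := by
  simp only [chkWord, Bool.and_eq_true, List.all_eq_true, List.mem_range] at h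
  have hl : ∀ s ∈ w, s < 3 := fun s hs => Nat.le_of_ble_eq_true (h.1 s hs)
  refine Subtype.ext (hy.trans (Cfsg.Agent.Spor.Golay.eq_permOf hv fun i hi => ?_).symm)
  show idx ((ev gT w).1 (pt i)) = _
  rw [← Cfsg.Agent.Spor.MTwentyTwo.piA_val (ev gT w) ⟨i, hi⟩, Cfsg.Agent.Spor.MTwentyTwo.homA.apply_ev w hl]
  exact Nat.eq_of_beq_eq_true (h.2 i hi)

theorem words_ok : ∀ s < 3, chkWord (genQ.getD s 0) (inWords.getD s []) = true ∧
    chkWord (Cfsg.Agent.Spor.Golay.comp (Cfsg.Agent.Spor.Golay.comp rotP (genQ.getD s 0)) rotI)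
      (twWords.getD s []) = true := by decide +kernel

theorem rotI_ok : Cfsg.Agent.Spor.Golay.valid rotI = true ∧
    Cfsg.Agent.Spor.Golay.comp rotP rotI = Cfsg.Agent.Spor.Golay.idP := by decide +kernel

theorem inc_gen {s : ℕ} (hs : s < 3) : inc (hT s) = ev gT (inWords.getD s []) :=
  ev_of_chk (valid_of_inM24 (inM24_of_chk (gen_ok s hs))) (words_ok s hs).1 (hT_val hs)

theorem incRot_gen {s : ℕ} (hs : s < 3) : incRot (hT s) = ev gT (twWords.getD s []) := by
  have vP := valid_of_inM24 rot_ok.1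
  have vQ := valid_of_inM24 (inM24_of_chk (gen_ok s hs))
  refine ev_of_chk (Cfsg.Agent.Spor.Golay.valid_comp (Cfsg.Agent.Spor.Golay.valid_comp vP vQ) rotI_ok.1)
    (words_ok s hs).2 ?_
  have hinv : permOf rotI = rot⁻¹ := by
    have := Cfsg.Agent.Spor.Golay.permOf_comp vP rotI_ok.1
    rw [rotI_ok.2, Cfsg.Agent.Spor.Golay.permOf_idP] at this
    exact eq_inv_of_mul_eq_one_right this.symm
  rw [Cfsg.Agent.Spor.Golay.permOf_comp (Cfsg.Agent.Spor.Golay.valid_comp vP vQ) rotI_ok.1,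
    Cfsg.Agent.Spor.Golay.permOf_comp vP vQ, hinv, ← hT_val hs]
  rfl

/-- Words in the smaller generators spelled in the larger ones. -/
def flatW (ws : List (List ℕ)) (w : List ℕ) : List ℕ := (w.map fun s => ws.getD s []).flatten

theorem map_ev (f : G21 →* G22) (ws : List (List ℕ)) (h : ∀ s < 3, f (hT s) = ev gT (ws.getD s [])) :
    ∀ w : List ℕ, (∀ s ∈ w, s < 3) → f (ev hT w) = ev gT (flatW ws w)
  | [], _ => map_one f
  | s :: w, hw => by
    show f (hT s * ev hT w) = ev gT (ws.getD s [] ++ flatW ws w)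
    rw [map_mul, ev_append, h s (hw s (List.mem_cons_self ..)),
      map_ev f ws h w fun t ht => hw t (List.mem_cons_of_mem _ ht)]

theorem flat_lt {ws : List (List ℕ)} (hws : ∀ u ∈ ws, ∀ s ∈ u, s < 3) (w : List ℕ) : ∀ s ∈ flatW ws w, s < 3 := by
  intro s hs
  obtain ⟨u, hu, hsu⟩ := List.mem_flatten.1 hs
  obtain ⟨t, -, rfl⟩ := List.mem_map.1 hu
  rcases Nat.lt_or_ge t ws.length with h | h
  · rw [List.getD_eq_getElem _ _ h] at hsu
    exact hws _ (List.getElem_mem h) s hsu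
  · rw [List.getD_eq_default _ _ h] at hsu
    exact absurd hsu List.not_mem_nil

theorem words_lt : (∀ u ∈ inWords, ∀ s ∈ u, s < 3) ∧ ∀ u ∈ twWords, ∀ s ∈ u, s < 3 := by decide +kernel

end Cfsg.Agent.Spor.MTwentyOne
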