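import Cfsg.Agent.Lib.Spor.Cos.Sift
import Cfsg.Agent.Lib.Spor.MTwentyOneMult.Two
import Cfsg.Agent.Lib.Spor.MTwentyTwoMult.Sign

/-! The values of three commutators in the three covers. -/

set_option autoImplicit false
set_option maxRecDepth 100000
set_option maxHeartbeats 4000000

open Cfsg.Agent.Spor.Cos Cfsg.Agent.Grp.SchurM
open Cfsg.Agent.Spor.MTwentyTwo (signP signH)

namespace Cfsg.Agent.Spor.MTwentyOne

/-- The difference of the shifts of the two products is a given number. -/
noncomputable def chkVal (S : SignTab) (ws : List (List ℕ)) (u w : List ℕ) (d : ℕ) : Bool :=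
  Nat.beq (((S.trk S.root (flatW ws u ++ flatW ws w)).2 +
    (S.p - (S.trk S.root (flatW ws w ++ flatW ws u)).2 % S.p)) % S.p) d

theorem val0 : chkVal signP inWords pairU0 pairW0 0 = true ∧ chkVal signH inWords pairU0 pairW0 2 = true ∧
    chkVal signH twWords pairU0 pairW0 3 = true := by decide +kernel

theorem val1 : chkVal signP inWords pairU1 pairW1 0 = true ∧ chkVal signH inWords pairU1 pairW1 3 = true ∧
    chkVal signH twWords pairU1 pairW1 2 = true := by decide +kernel

theorem val2 : chkVal signP inWords pairU2 pairW2 1 = true ∧ chkVal signH inWords pairU2 pairW2 0 = true ∧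
    chkVal signH twWords pairU2 pairW2 0 = true := by decide +kernel

theorem val_eq {S : SignTab} [NeZero S.p] {ws : List (List ℕ)} {u w : List ℕ} {d : ℕ}
    (h : chkVal S ws u w d = true) :
    ((S.trk S.root (flatW ws u ++ flatW ws w)).2 : ZMod S.p) -
      ((S.trk S.root (flatW ws w ++ flatW ws u)).2 : ZMod S.p) = (d : ZMod S.p) := by
  have e := congrArg (fun n : ℕ => (n : ZMod S.p)) (Nat.eq_of_beq_eq_true h)
  simp only [ZMod.natCast_mod, Nat.cast_add, Nat.cast_sub (Nat.mod_lt _ (NeZero.pos S.p)).le,
    ZMod.natCast_self, zero_sub] at e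
  rw [← e]
  ring

theorem comm0 : ev hT (pairU0 ++ pairW0) = ev hT (pairW0 ++ pairU0) :=
  ev_eq_of_agree homB det (by decide +kernel) (by decide +kernel) (by decide +kernel)

theorem comm1 : ev hT (pairU1 ++ pairW1) = ev hT (pairW1 ++ pairU1) :=
  ev_eq_of_agree homB det (by decide +kernel) (by decide +kernel) (by decide +kernel)

theorem comm2 : ev hT (pairU2 ++ pairW2) = ev hT (pairW2 ++ pairU2) :=
  ev_eq_of_agree homB det (by decide +kernel) (by decide +kernel) (by decide +kernel)

end Cfsg.Agent.Spor.MTwentyOne
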