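import Cfsg.Agent.Lib.Grp.SchurM.SignValue
import Cfsg.Agent.Lib.Spor.MTwentyTwoMult.SignComm
import Cfsg.Agent.Lib.Spor.MTwentyOneMult.Values

/-! A stem extension of the three-point stabiliser by a group of order 48. -/

set_option autoImplicit false
set_option maxRecDepth 100000
set_option maxHeartbeats 4000000

open Cfsg Cfsg.Agent.Spor.Cos Cfsg.Agent.Grp.SchurM
open Cfsg.Agent.Spor.MTwentyTwo (G22 gT signP signH)
open scoped commutatorElement

namespace Cfsg.Agent.Spor.MTwentyOne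

/-- The values of a kernel. -/
abbrev A48 : Type := ZMod 3 × ZMod 4 × ZMod 4

theorem span48 : ∀ v : A48, ∃ i < 4, ∃ j < 4, ∃ k < 3,
    v = i • ((0, 2, 3) : A48) + j • ((0, 3, 2) : A48) + k • ((1, 0, 0) : A48) := by decide +kernel

theorem exists_cover : ∃ (Γ : Type) (_ : Group Γ) (_ : Finite Γ) (σ : Γ →* G21),
    Cfsg.IsStemExtension σ ∧ Nonempty (σ.ker ≃* Multiplicative A48) := by
  obtain ⟨θH, hH⟩ : ∃ θ : G22 →* Equiv.Perm (Fin signH.B.N), signH.B.Hom gT θ :=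
    Cfsg.Agent.Spor.MTwentyTwo.exists_homH
  obtain ⟨θP, hP⟩ : ∃ θ : G22 →* Equiv.Perm (Fin signP.B.N), signP.B.Hom gT θ :=
    Cfsg.Agent.Spor.MTwentyTwo.exists_homP
  have : Finite G22 := Nat.finite_of_card_ne_zero (by rw [Cfsg.Agent.Spor.MTwentyTwo.card_G22]; norm_num)
  have : Finite G21 := Nat.finite_of_card_ne_zero (by rw [card_G21]; norm_num)
  have hOne := Cfsg.Agent.Spor.MTwentyTwo.homOne
  have okH := Cfsg.Agent.Spor.MTwentyTwo.okH
  have okP := Cfsg.Agent.Spor.MTwentyTwo.okP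
  obtain ⟨hst4, -, -⟩ := okH.stem (G := G22) hH hOne rfl Cfsg.Agent.Spor.MTwentyTwo.gen
    Cfsg.Agent.Spor.MTwentyTwo.shiftH Cfsg.Agent.Spor.MTwentyTwo.commH
  obtain ⟨hst3, -, -⟩ := okP.stem (G := G22) hP hOne rfl Cfsg.Agent.Spor.MTwentyTwo.gen
    Cfsg.Agent.Spor.MTwentyTwo.shiftP Cfsg.Agent.Spor.MTwentyTwo.commP
  have := okH.finite (G := G22)
  have := okP.finite (G := G22)
  have : NeZero signH.p := ⟨by decide⟩
  have : NeZero signP.p := ⟨by decide⟩
  set q4 := signH.proj gT θH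
  set q3 := signP.proj gT θP
  let M := G21 × ↥(signH.cov gT θH) × ↥(signH.cov gT θH) × ↥(signP.cov gT θP)
  let E : Subgroup M :=
    { carrier := {m | q4 m.2.1 = inc m.1 ∧ q4 m.2.2.1 = incRot m.1 ∧ q3 m.2.2.2 = inc m.1}
      one_mem' := ⟨(map_one q4).trans (map_one inc).symm, (map_one q4).trans (map_one incRot).symm,
        (map_one q3).trans (map_one inc).symm⟩
      mul_mem' := fun {a b} ha hb =>
        ⟨(map_mul q4 _ _).trans ((congrArg₂ (· * ·) ha.1 hb.1).trans (map_mul inc _ _).symm),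
          (map_mul q4 _ _).trans ((congrArg₂ (· * ·) ha.2.1 hb.2.1).trans (map_mul incRot _ _).symm),
          (map_mul q3 _ _).trans ((congrArg₂ (· * ·) ha.2.2 hb.2.2).trans (map_mul inc _ _).symm)⟩
      inv_mem' := fun {a} ha =>
        ⟨(map_inv q4 _).trans ((congrArg (·⁻¹) ha.1).trans (map_inv inc _).symm),
          (map_inv q4 _).trans ((congrArg (·⁻¹) ha.2.1).trans (map_inv incRot _).symm),
          (map_inv q3 _).trans ((congrArg (·⁻¹) ha.2.2).trans (map_inv inc _).symm)⟩ }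
  let σ : E →* G21 := (MonoidHom.fst _ _).comp E.subtype
  have hk : ∀ z : E, σ z = 1 → q4 z.1.2.1 = 1 ∧ q4 z.1.2.2.1 = 1 ∧ q3 z.1.2.2.2 = 1 := fun z hz => by
    obtain ⟨h1, h2, h3⟩ := z.2
    have hz' : z.1.1 = 1 := hz
    exact ⟨by rw [h1, hz', map_one], by rw [h2, hz', map_one], by rw [h3, hz', map_one]⟩
  let r4 : signH.Pt := ⟨signH.root, okH.root_lt⟩
  let r3 : signP.Pt := ⟨signP.root, okP.root_lt⟩
  let val : E → A48 := fun z =>
    (SignTab.kval r3 z.1.2.2.2, SignTab.kval r4 z.1.2.1, SignTab.kval r4 z.1.2.2.1)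
  have vmul : ∀ a b : E, σ a = 1 → σ b = 1 → val (a * b) = val a + val b := fun a b ha hb =>
    Prod.ext (okP.kval_mul hP hOne rfl r3 (hk a ha).2.2 (hk b hb).2.2)
      (Prod.ext (okH.kval_mul hH hOne rfl r4 (hk a ha).1 (hk b hb).1)
        (okH.kval_mul hH hOne rfl r4 (hk a ha).2.1 (hk b hb).2.1))
  let ψ : σ.ker →* Multiplicative A48 := MonoidHom.mk' (fun z => Multiplicative.ofAdd (val z.1))
    fun a b => by rw [← ofAdd_add, ← vmul a.1 b.1 a.2 b.2]; rfl
  have hinj : Function.Injective ψ := by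
    rw [← MonoidHom.ker_eq_bot_iff, eq_bot_iff]
    intro z hz
    have hv : val z.1 = 0 := congrArg Multiplicative.toAdd (MonoidHom.mem_ker.1 hz)
    have h3 := okP.eq_one_of_kval hP hOne rfl r3 (hk z.1 z.2).2.2 (congrArg Prod.fst hv)
    have h4 := okH.eq_one_of_kval hH hOne rfl r4 (hk z.1 z.2).1 (congrArg (fun v : A48 => v.2.1) hv)
    have h4' := okH.eq_one_of_kval hH hOne rfl r4 (hk z.1 z.2).2.1 (congrArg (fun v : A48 => v.2.2) hv)
    exact Subgroup.mem_bot.2 (Subtype.ext (Subtype.ext (Prod.ext z.2 (Prod.ext h4 (Prod.ext h4' h3)))))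
  have hpair : ∀ u w : List ℕ, (∀ s ∈ u, s < 3) → (∀ s ∈ w, s < 3) → ev hT (u ++ w) = ev hT (w ++ u) →
      ∀ a b c : ℕ, chkVal signP inWords u w a = true → chkVal signH inWords u w b = true →
        chkVal signH twWords u w c = true →
        ∃ z : σ.ker, (z : E) ∈ commutator E ∧ ψ z = Multiplicative.ofAdd ((a, b, c) : A48) := by
    intro u w hu hw hc a b c ha hb hc'
    let L : (x : List ℕ) → (∀ s ∈ x, s < 3) → E := fun x hx =>
      ⟨(ev hT x, SignTab.wordLift signH gT θH (flatW inWords x) (flat_lt words_lt.1 x),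
        SignTab.wordLift signH gT θH (flatW twWords x) (flat_lt words_lt.2 x),
        SignTab.wordLift signP gT θP (flatW inWords x) (flat_lt words_lt.1 x)),
        (SignTab.proj_wordLift (flat_lt words_lt.1 x)).trans (map_ev inc inWords (fun s => inc_gen) x hx).symm,
        (SignTab.proj_wordLift (flat_lt words_lt.2 x)).trans (map_ev incRot twWords (fun s => incRot_gen) x hx).symm,
        (SignTab.proj_wordLift (flat_lt words_lt.1 x)).trans (map_ev inc inWords (fun s => inc_gen) x hx).symm⟩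
    have hσ : σ ⁅L u hu, L w hw⁆ = 1 := by
      rw [map_commutatorElement, commutatorElement_eq_one_iff_mul_comm]
      show ev hT u * ev hT w = ev hT w * ev hT u
      rw [← ev_append, ← ev_append, hc]
    obtain ⟨k4, k4', k3⟩ := hk _ hσ
    refine ⟨⟨⁅L u hu, L w hw⁆, hσ⟩,
      Subgroup.commutator_mem_commutator (Subgroup.mem_top _) (Subgroup.mem_top _), congrArg Multiplicative.ofAdd ?_⟩
    refine Prod.ext ?_ (Prod.ext ?_ ?_)
    · exact (okP.kval_comm hP hOne rfl r3 (flat_lt words_lt.1 u) (flat_lt words_lt.1 w) k3).trans (val_eq ha)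
    · exact (okH.kval_comm hH hOne rfl r4 (flat_lt words_lt.1 u) (flat_lt words_lt.1 w) k4).trans (val_eq hb)
    · exact (okH.kval_comm hH hOne rfl r4 (flat_lt words_lt.2 u) (flat_lt words_lt.2 w) k4').trans (val_eq hc')
  obtain ⟨z0, m0, e0⟩ := hpair pairU0 pairW0 (by decide) (by decide) comm0 _ _ _ val0.1 val0.2.1 val0.2.2
  obtain ⟨z1, m1, e1⟩ := hpair pairU1 pairW1 (by decide) (by decide) comm1 _ _ _ val1.1 val1.2.1 val1.2.2
  obtain ⟨z2, m2, e2⟩ := hpair pairU2 pairW2 (by decide) (by decide) comm2 _ _ _ val2.1 val2.2.1 val2.2.2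
  have hsur : ∀ v : Multiplicative A48, ∃ z : σ.ker, (z : E) ∈ commutator E ∧ ψ z = v := by
    intro v
    obtain ⟨i, -, j, -, k, -, hv⟩ := span48 (Multiplicative.toAdd v)
    refine ⟨z0 ^ i * z1 ^ j * z2 ^ k, ?_, ?_⟩
    · simp only [Subgroup.coe_mul, Subgroup.coe_pow]
      exact mul_mem (mul_mem (pow_mem m0 i) (pow_mem m1 j)) (pow_mem m2 k)
    · rw [map_mul, map_mul, map_pow, map_pow, map_pow, e0, e1, e2, ← ofAdd_nsmul, ← ofAdd_nsmul, ← ofAdd_nsmul,
        ← ofAdd_add, ← ofAdd_add]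
      simp only [Nat.cast_ofNat, Nat.cast_zero, Nat.cast_one]
      rw [← hv, ofAdd_toAdd]
  refine ⟨E, inferInstance, inferInstance, σ, ⟨fun x => ?_, fun z hz => ?_, fun z hz => ?_⟩,
    ⟨MulEquiv.ofBijective ψ ⟨hinj, fun v => (hsur v).imp fun z h => h.2⟩⟩⟩
  · obtain ⟨a, ha⟩ := hst4.1 (inc x)
    obtain ⟨b, hb⟩ := hst4.1 (incRot x)
    obtain ⟨c, hc⟩ := hst3.1 (inc x)
    exact ⟨⟨(x, a, b, c), ha, hb, hc⟩, rfl⟩
  · obtain ⟨k4, k4', k3⟩ := hk z hz
    have hz1 : z.1.1 = 1 := hz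
    refine Subgroup.mem_center_iff.2 fun y => Subtype.ext (Prod.ext ?_ (Prod.ext ?_ (Prod.ext ?_ ?_)))
    · show y.1.1 * z.1.1 = z.1.1 * y.1.1
      rw [hz1, mul_one, one_mul]
    · exact Subgroup.mem_center_iff.1 (hst4.2.1 k4) y.1.2.1
    · exact Subgroup.mem_center_iff.1 (hst4.2.1 k4') y.1.2.2.1
    · exact Subgroup.mem_center_iff.1 (hst3.2.1 k3) y.1.2.2.2
  · obtain ⟨z', m', e'⟩ := hsur (ψ ⟨z, hz⟩)
    have he : (z' : E) = z := congrArg Subtype.val (hinj e')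
    exact he ▸ m'

end Cfsg.Agent.Spor.MTwentyOne
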