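import Cfsg.Agent.Lib.Grp.SchurM.TailPairExp
import Cfsg.Agent.Lib.Spor.MTwentyOneMult.Two

/-! A Sylow 2-subgroup of the three-point stabiliser of the code with equations for the tails. -/

set_option autoImplicit false
set_option maxRecDepth 100000
set_option maxHeartbeats 8000000

open Cfsg.Agent.Grp.SchurM.Tails

namespace Cfsg.Agent.Spor.MTwentyOne

/-- Presentation of the Sylow 2-subgroup. -/
def pc2 : PC where
  p := 2
  n := 6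
  rhs := [[4],
    [0, 1],
    [5],
    [0, 2, 4],
    [1, 2, 4, 5],
    [4],
    [0, 3, 5],
    [1, 3, 4],
    [2, 3],
    [4, 5],
    [0, 4],
    [1, 4],
    [2, 4],
    [3, 4],
    [],
    [0, 5],
    [1, 5],
    [2, 5],
    [3, 5],
    [4, 5],
    []]
  defs := [(4, 0, 0), (5, 1, 1)]

/-- Elements of the Sylow 2-subgroup. -/
def els2 : List (List ℕ) :=
   [[0, 2, 5],
    [2, 3, 5],
    [0, 1, 4, 5],
    [2, 3, 4, 5],
    [2, 3],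
    [0, 1, 4],
    [1, 3],
    [0, 2],
    [0, 1],
    [1, 3, 4, 5],
    [2, 3, 4],
    [0, 1, 5],
    [1, 3, 4],
    [0, 2, 4, 5],
    [0, 2, 4],
    [1, 3, 5],
    [1],
    [0, 1, 3, 5],
    [2],
    [0, 1, 3, 4, 5],
    [0, 1, 3],
    [2, 5],
    [0, 2, 3, 4],
    [1, 5],
    [2, 4, 5],
    [0, 2, 3, 5],
    [0, 1, 3, 4],
    [2, 4],
    [0, 2, 3],
    [1, 4],
    [1, 4, 5],
    [0, 2, 3, 4, 5],
    [3],
    [0],
    [1, 2, 3, 4],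
    [0, 4],
    [0, 5],
    [1, 2, 3, 4, 5],
    [0, 1, 2, 5],
    [3, 5],
    [1, 2, 3, 5],
    [0, 1, 2, 4],
    [0, 4, 5],
    [1, 2, 3],
    [0, 1, 2, 4, 5],
    [3, 4],
    [3, 4, 5],
    [0, 1, 2],
    [0, 1, 2, 3, 4, 5],
    [1, 2, 4],
    [0, 3, 4, 5],
    [1, 2],
    [1, 2, 4, 5],
    [0, 3, 4],
    [5],
    [0, 1, 2, 3, 4],
    [0, 3],
    [4],
    [1, 2, 5],
    [0, 3, 5],
    [4, 5],
    [0, 1, 2, 3, 5],
    [0, 1, 2, 3],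
    []]

/-- Conjugation data. -/
def conj2 : List Conj :=
   [(0, [1, 3], [5]),
    (0, [1, 3, 4], [0, 1, 2, 4, 5]),
    (0, [1, 3, 4, 5], [0, 2, 3, 5]),
    (0, [0, 1, 2, 4], [4]),
    (1, [0, 3, 5], [0, 1, 2, 3, 4]),
    (1, [1, 2], [5]),
    (1, [4], [0, 1, 2, 3, 5]),
    (1, [1, 2, 5], [1, 2, 5])]

/-- Equations between tails. -/
def cert2 : Cert where
  eqns := [.cons [2, 1, 0] 0 1,
    .cons [3, 1, 0] 0 1,
    .cons [3, 2, 0] 0 1,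
    .cons [3, 2, 1] 0 1,
    .cons [4, 2, 1] 0 1,
    .cons [0, 0, 0] 0 1,
    .cons [1, 1, 0] 0 1,
    .cons [2, 2, 0] 0 1,
    .cons [2, 2, 1] 0 1,
    .cons [2, 1, 1] 0 1,
    .cons [3, 3, 1] 0 1,
    .fus [0, 1, 2, 3] [0, 0] [],
    .fus [0, 1, 2, 3] [1, 1] [],
    .fus [0, 1, 2, 3] [2, 1] [1, 2],
    .fus [4, 5, 6, 7] [0, 0] [],
    .fus [4, 5, 6, 7] [1, 0] [0, 1],
    .fus [4, 5, 6, 7] [2, 2] []]
  free := 21
  combo := [[],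
    [],
    [],
    [0, 1, 2, 5, 7, 8, 10, 11, 12, 14, 15],
    [0, 1, 2, 4, 6, 10, 11, 13, 14, 16],
    [2, 4, 5, 8, 9, 11, 13, 15, 16],
    [2, 4, 7, 8, 9, 12, 16],
    [0, 1, 2, 3, 5, 6, 7, 8, 10, 11, 12, 14],
    [],
    [2, 3, 5, 7, 8, 12, 14],
    [5],
    [0, 4, 5, 6],
    [1, 4, 5, 8, 9],
    [0, 4, 6, 7, 8, 9, 10],
    [1, 4, 7, 8, 9],
    [6],
    [1, 4, 5],
    [0, 2, 6, 7, 8, 9, 10],
    [0, 1, 3, 4, 5, 6, 7, 10],
    [4],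
    [2, 9, 10]]

/-- The certificate. -/
def tab2 : TableCert where
  P := pc2
  ews := [[0, 2, 1, 2, 0, 2, 0, 1, 2, 0, 2, 1, 0, 2, 0, 2, 1, 2, 1, 0],
    [1, 0, 2, 0, 2, 1, 2, 0, 2, 1, 0, 2, 1, 2, 1, 0],
    [2, 1, 0, 2, 0, 2, 1, 0, 2, 1, 2, 0, 2, 0, 1, 0, 2, 1, 0],
    [1, 2, 0, 2, 1, 2, 0, 2, 0, 1],
    [2, 0, 1, 0, 2, 0, 2, 1, 2, 1, 0, 2, 0, 1, 0, 2],
    [2, 1, 2, 0, 2, 0, 1, 2, 1, 0, 2, 1, 0, 2, 1, 2, 1, 0, 2, 0]]
  gws := [[1, 2, 0, 1, 0, 2, 0, 2, 1, 2, 0, 2, 0, 1, 0, 2, 1],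
    [0, 2, 0, 1, 2, 0, 2, 1, 2, 0, 2, 0, 1, 2, 1]]
  C := conj2
  K := cert2
  els := els2

theorem tab2_rel : tab2.chkRel actB [0, 1, 2, 3, 4, 5, 6, 7, 8, 9, 10, 11, 12, 13, 14, 15, 16, 17, 18, 19, 20, 21, 22, 23] = true := by decide +kernel

theorem tab2_card : tab2.chkCard actB [0, 1, 2, 3, 4, 5, 6, 7, 8, 9, 10, 11, 12, 13, 14, 15, 16, 17, 18, 19, 20, 21, 22, 23] = true := by decide +kernel

theorem tab2_tails : tab2.K.checkPair tab2.P tab2.C (tri 1 0) (tri 3 2) = true := by decide +kernel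

theorem pow_free2 : Cfsg.Agent.Spor.Cos.ev hT (tab2.flat (List.replicate 4 1)) = Cfsg.Agent.Spor.Cos.ev hT [] :=
  Cfsg.Agent.Spor.Cos.ev_eq_of_agree homB det (by decide +kernel) (by decide +kernel) (by decide +kernel)

theorem pow_free2' : Cfsg.Agent.Spor.Cos.ev hT (tab2.flat (List.replicate 4 3)) = Cfsg.Agent.Spor.Cos.ev hT [] :=
  Cfsg.Agent.Spor.Cos.ev_eq_of_agree homB det (by decide +kernel) (by decide +kernel) (by decide +kernel)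

/-- The certificate with exponent four. -/
theorem sylow2 : ∃ S : SylowPairExp G21 2, S.m = 4 :=
  TableCert.sylowPairExp homB (by decide +kernel) det card_G21 rfl (by decide) tab2_rel tab2_card
    (j := 1) (i := 0) (j' := 3) (i' := 2) tab2_tails (by decide +kernel) rfl (m := 4) pow_free2
    (by decide +kernel) rfl pow_free2' (by decide +kernel)

end Cfsg.Agent.Spor.MTwentyOne
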