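import Cfsg.Agent.Lib.Grp.SchurM.TailExp
import Cfsg.Agent.Lib.Spor.MTwentyOneMult.Two

/-! A Sylow 3-subgroup of the three-point stabiliser of the code with equations for the tails. -/

set_option autoImplicit false
set_option maxRecDepth 100000
set_option maxHeartbeats 8000000

open Cfsg.Agent.Grp.SchurM.Tails

namespace Cfsg.Agent.Spor.MTwentyOne

/-- Presentation of the Sylow 3-subgroup. -/
def pc3 : PC where
  p := 3
  n := 2
  rhs := [[],
    [0, 1],
    []]
  defs := []

/-- Elements of the Sylow 3-subgroup. -/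
def els3 : List (List ℕ) :=
   [[0, 1],
    [1],
    [1, 1],
    [0, 1, 1],
    [0, 0, 1, 1],
    [0],
    [0, 0],
    [0, 0, 1],
    []]

/-- Conjugation data. -/
def conj3 : List Conj :=
   [(0, [0, 1], [0, 0, 1, 1]),
    (0, [0, 1, 1], [0, 0, 1])]

/-- Equations between tails. -/
def cert3 : Cert where
  eqns := [.fus [0, 1] [0, 0, 0] [],
    .fus [0, 1] [1, 1, 1] []]
  free := 1
  combo := [[0, 1],
    [],
    [0, 1, 1]]

/-- The certificate. -/
def tab3 : TableCert where
  P := pc3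
  ews := [[2, 1, 0, 2, 1, 2, 0, 2, 0, 1, 2, 1, 0, 2, 1, 0, 2, 0],
    [0, 2, 1, 2, 1, 0, 2, 1, 0, 2, 0, 1, 2, 0, 2]]
  gws := [[0, 2, 0, 1, 2, 0, 2, 0, 1, 2, 1, 0, 2, 0, 2, 1, 0, 2, 0]]
  C := conj3
  K := cert3
  els := els3

theorem tab3_rel : tab3.chkRel actB [0, 1, 2, 3, 4, 5, 6, 7, 8, 9, 10, 11, 12, 13, 14, 15, 16, 17, 18, 19, 20, 21, 22, 23] = true := by decide +kernel

theorem tab3_card : tab3.chkCard actB [0, 1, 2, 3, 4, 5, 6, 7, 8, 9, 10, 11, 12, 13, 14, 15, 16, 17, 18, 19, 20, 21, 22, 23] = true := by decide +kernel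

theorem tab3_tails : tab3.K.check tab3.P tab3.C = true := by decide +kernel

theorem pow_free3 : Cfsg.Agent.Spor.Cos.ev hT (tab3.flat (List.replicate 3 1)) = Cfsg.Agent.Spor.Cos.ev hT [] :=
  Cfsg.Agent.Spor.Cos.ev_eq_of_agree homB det (by decide +kernel) (by decide +kernel) (by decide +kernel)

/-- The certificate with exponent three. -/
theorem sylow3 : ∃ S : SylowExp G21 3, S.m = 3 :=
  TableCert.sylowExp_m homB (by decide +kernel) det card_G21 rfl (by decide) tab3_rel tab3_card tab3_tails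
    (j := 1) (i := 0) (by decide +kernel) rfl rfl (m := 3) pow_free3 (by decide +kernel)

end Cfsg.Agent.Spor.MTwentyOne
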