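import Cfsg.Agent.Lib.Spor.MTwentyOneMult.Tail2
import Cfsg.Agent.Lib.Spor.MTwentyOneMult.Tail3
import Cfsg.Agent.Lib.Spor.MTwentyOneMult.Tail5
import Cfsg.Agent.Lib.Spor.MTwentyOneMult.Tail7
import Cfsg.Agent.Lib.Spor.MTwentyOneMult.Cover

/-! The multiplier of `PSL₃(4)`. -/

set_option autoImplicit false
set_option maxRecDepth 100000
set_option maxHeartbeats 4000000

open Cfsg Cfsg.Agent.Spor.Cos Cfsg.Agent.Grp.SchurM Cfsg.Agent.Grp.SchurM.Tails

namespace Cfsg.Agent.Spor.MTwentyOne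

universe u

/-- An element of exponent `n` is the image of one. -/
theorem exists_hom_zmod {H : Type u} [Group H] {n : ℕ} (z : H) (hz : z ^ n = 1) :
    ∃ f : Multiplicative (ZMod n) →* H, f (Multiplicative.ofAdd 1) = z := by
  refine ⟨AddMonoidHom.toMultiplicativeLeft (ZMod.lift n ⟨zmultiplesHom _ (Additive.ofMul z), by
    show (n : ℤ) • Additive.ofMul z = 0
    rw [natCast_zsmul, ← ofMul_pow, hz, ofMul_one]⟩), ?_⟩
  show Additive.toMul (ZMod.lift n ⟨zmultiplesHom _ (Additive.ofMul z), _⟩ (1 : ZMod n)) = z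
  rw [show (1 : ZMod n) = ((1 : ℤ) : ZMod n) from Int.cast_one.symm, ZMod.lift_coe]
  simp

/-- Stem kernels are images of the group of order 48. -/
theorem exists_surjective {Δ : Type u} [Group Δ] [Finite Δ] (σ : Δ →* G21) (hσ : Cfsg.IsStemExtension σ) :
    ∃ π : Multiplicative A48 →* σ.ker, Function.Surjective π := by
  have : Finite G21 := Nat.finite_of_card_ne_zero (by rw [card_G21]; norm_num)
  obtain ⟨S, hS⟩ := sylow2
  obtain ⟨T, hT⟩ := sylow3
  obtain ⟨X, Y, X', Y', hX, hY, hX', hY', hc, hd, hcm, hdm⟩ := S.exists_vals σ hσ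
  obtain ⟨U, W, hU, hW, he, hem⟩ := T.exists_val σ hσ
  rw [hS] at hcm hdm
  rw [hT] at hem
  set c := cval X Y
  set d := cval X' Y'
  set e := T.val U W
  have hm : ∀ a b : σ.ker, a * b = b * a := fun a b => Subtype.ext (Subgroup.mem_center_iff.1 (hσ.2.1 b.2) (a : Δ))
  let zc : σ.ker := ⟨c, hc⟩
  let zd : σ.ker := ⟨d, hd⟩
  let ze : σ.ker := ⟨e, he⟩
  obtain ⟨fe, fe1⟩ := exists_hom_zmod (n := 3) ze (Subtype.ext hem)
  obtain ⟨fc, fc1⟩ := exists_hom_zmod (n := 4) zc (Subtype.ext hcm)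
  obtain ⟨fd, fd1⟩ := exists_hom_zmod (n := 4) zd (Subtype.ext hdm)
  let π : Multiplicative A48 →* σ.ker := MonoidHom.mk'
    (fun v => fe (Multiplicative.ofAdd (Multiplicative.toAdd v).1) *
      fc (Multiplicative.ofAdd (Multiplicative.toAdd v).2.1) * fd (Multiplicative.ofAdd (Multiplicative.toAdd v).2.2))
    fun a b => by
      simp only [toAdd_mul, Prod.fst_add, Prod.snd_add, ofAdd_add, map_mul]
      letI : CommGroup σ.ker := { (inferInstance : Group σ.ker) with mul_comm := hm }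
      ac_rfl
  refine ⟨π, ?_⟩
  set Z : Subgroup Δ := π.range.map σ.ker.subtype with hZdef
  have hin : ∀ (v : Multiplicative A48) (z : σ.ker), π v = z → (z : Δ) ∈ Z := fun v z h =>
    ⟨z, ⟨v, h⟩, rfl⟩
  have hle : σ.ker ≤ Z := by
    refine ker_le_of_cover_sub σ hσ (by rintro _ ⟨z, -, rfl⟩; exact z.2) fun q hq hdvd => ?_
    rw [card_G21, show 20160 = 2 ^ 6 * 3 ^ 2 * 5 * 7 by norm_num] at hdvd
    have key : ∀ r : ℕ, r.Prime → q ∣ r → q = r := fun r hr h => (Nat.prime_dvd_prime_iff_eq hq hr).1 h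
    rcases (Nat.Prime.dvd_mul hq).1 hdvd with hd' | h7
    · rcases (Nat.Prime.dvd_mul hq).1 hd' with hd' | h5
      · rcases (Nat.Prime.dvd_mul hq).1 hd' with h2 | h3
        · obtain rfl := key 2 Nat.prime_two (hq.dvd_of_dvd_pow h2)
          refine Or.inr (Or.inr ⟨S, X, Y, X', Y', hX, hY, hX', hY', ?_, ?_⟩)
          · exact hin (Multiplicative.ofAdd (0, 1, 0)) zc (by simp [π, fe1, fc1, fd1])
          · exact hin (Multiplicative.ofAdd (0, 0, 1)) zd (by simp [π, fe1, fc1, fd1])
        · obtain rfl := key 3 Nat.prime_three (hq.dvd_of_dvd_pow h3)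
          exact Or.inr (Or.inl ⟨T, U, W, hU, hW, hin (Multiplicative.ofAdd (1, 0, 0)) ze (by simp [π, fe1, fc1, fd1])⟩)
      · obtain rfl := key 5 (by norm_num) h5
        exact Or.inl sylow5
    · obtain rfl := key 7 (by norm_num) h7
      exact Or.inl sylow7
  intro z
  obtain ⟨z', ⟨v, hv⟩, e'⟩ := hle z.2
  exact ⟨v, hv.trans (Subtype.ext e')⟩

theorem multiplier {F : Type u} [Field F] [Fintype F] (hF : Fintype.card F = 4) :
    Cfsg.HasSchurMultiplier (Matrix.ProjectiveSpecialLinearGroup (Fin 3) F) (Multiplicative A48) := by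
  classical
  obtain ⟨e⟩ := M21.iso (none : Cfsg.GolayPt) (some 0) (some 1) (by decide) (by decide) (by decide) F hF
  refine ⟨?_, fun Δ _ _ σ hσ => ?_⟩
  · obtain ⟨Γ₀, _, _, σ₀, hst, ⟨k⟩⟩ := exists_cover
    let U := ULift.{u} Γ₀
    let up : U ≃* Γ₀ := MulEquiv.ulift
    let q : U →* Matrix.ProjectiveSpecialLinearGroup (Fin 3) F :=
      e.toMonoidHom.comp (σ₀.comp up.toMonoidHom)
    have hker : q.ker = σ₀.ker.comap up.toMonoidHom := by
      ext x
      simp only [q, Subgroup.mem_comap, MonoidHom.mem_ker, MonoidHom.comp_apply, MulEquiv.coe_toMonoidHom,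
        map_eq_one_iff e e.injective]
    refine ⟨U, inferInstance, inferInstance, q, ⟨e.surjective.comp (hst.1.comp up.surjective), ?_, ?_⟩, ?_⟩
    · intro x hx
      rw [hker] at hx
      refine Subgroup.mem_center_iff.2 fun y => up.injective ?_
      rw [map_mul, map_mul]
      exact Subgroup.mem_center_iff.1 (hst.2.1 hx) (up y)
    · intro x hx
      rw [hker] at hx
      have : up x ∈ (commutator U).map up.toMonoidHom := by
        rw [commutator_def, Subgroup.map_commutator, Subgroup.map_top_of_surjective up.toMonoidHom up.surjective,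
          ← commutator_def]
        exact hst.2.2 hx
      obtain ⟨y, hy, hyx⟩ := this
      rwa [← up.injective hyx]
    · let eq : σ₀.ker.comap up.toMonoidHom ≃* σ₀.ker :=
        { toFun := fun x => ⟨up x.1, x.2⟩
          invFun := fun y => ⟨up.symm y.1, by
            rw [Subgroup.mem_comap]; show up (up.symm y.1) ∈ σ₀.ker; rw [up.apply_symm_apply]; exact y.2⟩
          left_inv := fun x => Subtype.ext (up.symm_apply_apply _)
          right_inv := fun y => Subtype.ext (up.apply_symm_apply _)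
          map_mul' := fun x y => Subtype.ext (map_mul up x.1 y.1) }
      exact ⟨((MulEquiv.subgroupCongr hker).trans eq).trans k⟩
  · have hker : (e.symm.toMonoidHom.comp σ).ker = σ.ker := MonoidHom.ker_mulEquiv_comp σ e.symm
    obtain ⟨π, hπ⟩ := exists_surjective (e.symm.toMonoidHom.comp σ)
      ⟨e.symm.surjective.comp hσ.1, hker.le.trans hσ.2.1, hker.le.trans hσ.2.2⟩
    exact ⟨(MulEquiv.subgroupCongr hker).toMonoidHom.comp π, (MulEquiv.subgroupCongr hker).surjective.comp hπ⟩

end Cfsg.Agent.Spor.MTwentyOne
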